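/-
The length-12 ternary code: explicit parametrisation by a 6-tuple of residues, membership,
weights and counts.
-/
import Cfsg.Prelude.Def_SporadicCombinatorics

set_option autoImplicit false

namespace Cfsg.Agent.Lib.Ternary.Basic

open Cfsg

/-- parameter space -/
abbrev Tup : Type := ZMod 3 × ZMod 3 × ZMod 3 × ZMod 3 × ZMod 3 × ZMod 3

/-- basis word 0 -/
def b0 (p : ArrayPt) : ZMod 3 :=
  (![![2, 2, 2], ![1, 1, 1], ![0, 0, 0], ![0, 0, 0]] : Fin 4 → Fin 3 → ZMod 3) p.1 p.2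
/-- basis word 1 -/
def b1 (p : ArrayPt) : ZMod 3 :=
  (![![0, 1, 2], ![1, 2, 0], ![2, 1, 0], ![0, 0, 0]] : Fin 4 → Fin 3 → ZMod 3) p.1 p.2
/-- basis word 2 -/
def b2 (p : ArrayPt) : ZMod 3 :=
  (![![2, 1, 0], ![2, 1, 0], ![2, 0, 1], ![0, 0, 0]] : Fin 4 → Fin 3 → ZMod 3) p.1 p.2
/-- basis word 3 -/
def b3 (p : ArrayPt) : ZMod 3 :=
  (![![0, 2, 1], ![1, 2, 0], ![0, 0, 0], ![2, 1, 0]] : Fin 4 → Fin 3 → ZMod 3) p.1 p.2
/-- basis word 4 -/
def b4 (p : ArrayPt) : ZMod 3 :=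
  (![![2, 0, 1], ![2, 1, 0], ![0, 0, 0], ![2, 0, 1]] : Fin 4 → Fin 3 → ZMod 3) p.1 p.2
/-- basis word 5 -/
def b5 (p : ArrayPt) : ZMod 3 :=
  (![![1, 2, 2], ![2, 0, 0], ![2, 0, 0], ![2, 0, 0]] : Fin 4 → Fin 3 → ZMod 3) p.1 p.2

/-- the parametrisation of the code -/
def enc (a : Tup) (p : ArrayPt) : ZMod 3 :=
  a.1 * b0 p + a.2.1 * b1 p + a.2.2.1 * b2 p + a.2.2.2.1 * b3 p + a.2.2.2.2.1 * b4 p +
    a.2.2.2.2.2 * b5 p

theorem isWord_of (x : ArrayPt → ZMod 3) (s : ZMod 3) (h1 : ∀ i : Fin 4, ∑ r : ZMod 3, x (i, r) = -s)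
    (h2 : ∀ a b : ZMod 3, ∑ i : Fin 4,
      x (i, (a • (![0, 1, 1, 1] : Fin 4 → ZMod 3) + b • (![1, 0, 1, 2] : Fin 4 → ZMod 3)) i) = s) :
    x ∈ ternaryGolayCode := by
  refine ⟨s, h1, fun t ht => ?_⟩
  obtain ⟨a, b, rfl⟩ := Submodule.mem_span_pair.mp ht
  exact h2 a b


theorem sum_z3 (f : ZMod 3 → ZMod 3) : ∑ r, f r = f 0 + f 1 + f 2 := Fin.sum_univ_three f

theorem sum_f4 (f : Fin 4 → ZMod 3) : ∑ i, f i = f 0 + f 1 + f 2 + f 3 := Fin.sum_univ_four f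

theorem forall_arrayPt (P : ArrayPt → Prop) (h00 : P (0, 0)) (h01 : P (0, 1)) (h02 : P (0, 2))
    (h10 : P (1, 0)) (h11 : P (1, 1)) (h12 : P (1, 2)) (h20 : P (2, 0)) (h21 : P (2, 1))
    (h22 : P (2, 2)) (h30 : P (3, 0)) (h31 : P (3, 1)) (h32 : P (3, 2)) : ∀ p, P p := by
  rintro ⟨i, r⟩
  have : ∀ (i : Fin 4) (r : Fin 3), P (i, r) := by
    intro i r
    fin_cases i <;> fin_cases r <;> first | exact h00 | exact h01 | exact h02 | exact h10 | exact h11 | exact h12 | exact h20 | exact h21 | exact h22 | exact h30 | exact h31 | exact h32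
  exact this i r

theorem b0_mem : b0 ∈ ternaryGolayCode := isWord_of _ 0 (by decide +kernel) (by decide +kernel)
theorem b1_mem : b1 ∈ ternaryGolayCode := isWord_of _ 0 (by decide +kernel) (by decide +kernel)
theorem b2_mem : b2 ∈ ternaryGolayCode := isWord_of _ 0 (by decide +kernel) (by decide +kernel)
theorem b3_mem : b3 ∈ ternaryGolayCode := isWord_of _ 0 (by decide +kernel) (by decide +kernel)
theorem b4_mem : b4 ∈ ternaryGolayCode := isWord_of _ 0 (by decide +kernel) (by decide +kernel)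
theorem b5_mem : b5 ∈ ternaryGolayCode := isWord_of _ 1 (by decide +kernel) (by decide +kernel)

theorem enc_mem (a : Tup) : enc a ∈ ternaryGolayCode := by
  have : enc a = a.1 • b0 + a.2.1 • b1 + a.2.2.1 • b2 + a.2.2.2.1 • b3 + a.2.2.2.2.1 • b4 +
      a.2.2.2.2.2 • b5 := rfl
  rw [this]
  exact Submodule.add_mem _ (Submodule.add_mem _ (Submodule.add_mem _ (Submodule.add_mem _
    (Submodule.add_mem _ (Submodule.smul_mem _ _ b0_mem) (Submodule.smul_mem _ _ b1_mem))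
    (Submodule.smul_mem _ _ b2_mem)) (Submodule.smul_mem _ _ b3_mem))
    (Submodule.smul_mem _ _ b4_mem)) (Submodule.smul_mem _ _ b5_mem)

theorem wt_all : ∀ a : Tup, a ≠ 0 →
    (ternarySupport (enc a)).card = 6 ∨ (ternarySupport (enc a)).card = 9 ∨
      (ternarySupport (enc a)).card = 12 := by
  decide +kernel

theorem count6 : (Finset.univ.filter fun a : Tup => (ternarySupport (enc a)).card = 6).card = 264 := by
  decide +kernel

theorem count9 : (Finset.univ.filter fun a : Tup => (ternarySupport (enc a)).card = 9).card = 440 := by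
  decide +kernel

theorem count12 : (Finset.univ.filter fun a : Tup => (ternarySupport (enc a)).card = 12).card = 24 := by
  decide +kernel

theorem enc_surj (x : ArrayPt → ZMod 3) (hx : x ∈ ternaryGolayCode) : ∃ a : Tup, enc a = x := by
  obtain ⟨s, hc, ht⟩ := hx
  have ht' : ∀ a b : ZMod 3, ∑ i : Fin 4,
      x (i, (a • (![0, 1, 1, 1] : Fin 4 → ZMod 3) + b • (![1, 0, 1, 2] : Fin 4 → ZMod 3)) i) = s :=
    fun a b => ht _ (Submodule.mem_span_pair.mpr ⟨a, b, rfl⟩)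
  have h3 : (3 : ZMod 3) = 0 := by decide
  have c0 : x (0, 0) + x (0, 1) + x (0, 2) = -s := by
    have h := hc 0
    rw [sum_z3] at h
    exact h
  have c1 : x (1, 0) + x (1, 1) + x (1, 2) = -s := by
    have h := hc 1
    rw [sum_z3] at h
    exact h
  have c2 : x (2, 0) + x (2, 1) + x (2, 2) = -s := by
    have h := hc 2
    rw [sum_z3] at h
    exact h
  have c3 : x (3, 0) + x (3, 1) + x (3, 2) = -s := by
    have h := hc 3
    rw [sum_z3] at h
    exact h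
  have t00 : x (0, 0) + x (1, 0) + x (2, 0) + x (3, 0) = s := by
    have h := ht' 0 0
    rw [sum_f4] at h
    exact h
  have t01 : x (0, 1) + x (1, 0) + x (2, 1) + x (3, 2) = s := by
    have h := ht' 0 1
    rw [sum_f4] at h
    exact h
  have t10 : x (0, 0) + x (1, 1) + x (2, 1) + x (3, 1) = s := by
    have h := ht' 1 0
    rw [sum_f4] at h
    exact h
  refine ⟨(x (1, 2), x (2, 1), x (2, 2), x (3, 1), x (3, 2), s), ?_⟩
  funext p
  refine forall_arrayPt (fun p => enc (x (1, 2), x (2, 1), x (2, 2), x (3, 1), x (3, 2), s) p = x p) ?_ ?_ ?_ ?_ ?_ ?_ ?_ ?_ ?_ ?_ ?_ ?_ p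
  · show x (1, 2) * 2 + x (2, 1) * 0 + x (2, 2) * 2 + x (3, 1) * 0 + x (3, 2) * 2 + s * 1 = x (0, 0)
    linear_combination 2 * c1 + 2 * c2 + 2 * c3 + 1 * t00 + 1 * t10 + ((-1) * x (0, 0) + (-1) * x (1, 0) + (-1) * x (1, 1) + (-1) * x (2, 0) + (-1) * x (2, 1) + (-1) * x (3, 0) + (-1) * x (3, 1) + (-1) * s) * h3
  · show x (1, 2) * 2 + x (2, 1) * 1 + x (2, 2) * 1 + x (3, 1) * 2 + x (3, 2) * 0 + s * 2 = x (0, 1)
    linear_combination 2 * c1 + 1 * c2 + 1 * c3 + 2 * t00 + 2 * t01 + 1 * t10 + ((-1) * x (0, 0) + (-1) * x (0, 1) + (-2) * x (1, 0) + (-1) * x (1, 1) + (-1) * x (2, 0) + (-1) * x (2, 1) + (-1) * x (3, 0) + (-1) * x (3, 2) + (1) * s) * h3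
  · show x (1, 2) * 2 + x (2, 1) * 2 + x (2, 2) * 0 + x (3, 1) * 1 + x (3, 2) * 1 + s * 2 = x (0, 2)
    linear_combination 2 * c0 + 2 * c1 + 1 * t01 + 1 * t10 + ((-1) * x (0, 0) + (-1) * x (0, 1) + (-1) * x (0, 2) + (-1) * x (1, 0) + (-1) * x (1, 1)) * h3
  · show x (1, 2) * 1 + x (2, 1) * 1 + x (2, 2) * 2 + x (3, 1) * 1 + x (3, 2) * 2 + s * 2 = x (1, 0)
    linear_combination 1 * c1 + 2 * c2 + 2 * c3 + 1 * t00 + 2 * t10 + ((-1) * x (0, 0) + (-1) * x (1, 0) + (-1) * x (1, 1) + (-1) * x (2, 0) + (-1) * x (2, 1) + (-1) * x (3, 0) + (-1) * x (3, 1)) * h3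
  · show x (1, 2) * 1 + x (2, 1) * 2 + x (2, 2) * 1 + x (3, 1) * 2 + x (3, 2) * 1 + s * 0 = x (1, 1)
    linear_combination 1 * c1 + 1 * c2 + 1 * c3 + 2 * t00 + 1 * t10 + ((-1) * x (0, 0) + (-1) * x (1, 0) + (-1) * x (1, 1) + (-1) * x (2, 0) + (-1) * x (3, 0)) * h3
  · show x (1, 2) * 1 + x (2, 1) * 0 + x (2, 2) * 0 + x (3, 1) * 0 + x (3, 2) * 0 + s * 0 = x (1, 2)
    linear_combination 0
  · show x (1, 2) * 0 + x (2, 1) * 2 + x (2, 2) * 2 + x (3, 1) * 0 + x (3, 2) * 0 + s * 2 = x (2, 0)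
    linear_combination 2 * c2 + ((-1) * x (2, 0)) * h3
  · show x (1, 2) * 0 + x (2, 1) * 1 + x (2, 2) * 0 + x (3, 1) * 0 + x (3, 2) * 0 + s * 0 = x (2, 1)
    linear_combination 0
  · show x (1, 2) * 0 + x (2, 1) * 0 + x (2, 2) * 1 + x (3, 1) * 0 + x (3, 2) * 0 + s * 0 = x (2, 2)
    linear_combination 0
  · show x (1, 2) * 0 + x (2, 1) * 0 + x (2, 2) * 0 + x (3, 1) * 2 + x (3, 2) * 2 + s * 2 = x (3, 0)
    linear_combination 2 * c3 + ((-1) * x (3, 0)) * h3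
  · show x (1, 2) * 0 + x (2, 1) * 0 + x (2, 2) * 0 + x (3, 1) * 1 + x (3, 2) * 0 + s * 0 = x (3, 1)
    linear_combination 0
  · show x (1, 2) * 0 + x (2, 1) * 0 + x (2, 2) * 0 + x (3, 1) * 0 + x (3, 2) * 1 + s * 0 = x (3, 2)
    linear_combination 0

theorem enc_read0 : ∀ a : Tup, enc a (1, 2) = a.1 := by decide +kernel
theorem enc_read1 : ∀ a : Tup, enc a (2, 1) = a.2.1 := by decide +kernel
theorem enc_read2 : ∀ a : Tup, enc a (2, 2) = a.2.2.1 := by decide +kernel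
theorem enc_read3 : ∀ a : Tup, enc a (3, 1) = a.2.2.2.1 := by decide +kernel
theorem enc_read4 : ∀ a : Tup, enc a (3, 2) = a.2.2.2.2.1 := by decide +kernel
theorem enc_read5 : ∀ a : Tup, -(enc a (0, 0) + enc a (0, 1) + enc a (0, 2)) = a.2.2.2.2.2 := by
  decide +kernel

theorem enc_inj : Function.Injective enc := by
  intro a b h
  have e0 : a.1 = b.1 := by rw [← enc_read0, ← enc_read0, h]
  have e1 : a.2.1 = b.2.1 := by rw [← enc_read1, ← enc_read1, h]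
  have e2 : a.2.2.1 = b.2.2.1 := by rw [← enc_read2, ← enc_read2, h]
  have e3 : a.2.2.2.1 = b.2.2.2.1 := by rw [← enc_read3, ← enc_read3, h]
  have e4 : a.2.2.2.2.1 = b.2.2.2.2.1 := by rw [← enc_read4, ← enc_read4, h]
  have e5 : a.2.2.2.2.2 = b.2.2.2.2.2 := by rw [← enc_read5, ← enc_read5, h]
  exact Prod.ext e0 (Prod.ext e1 (Prod.ext e2 (Prod.ext e3 (Prod.ext e4 e5))))

theorem mem_code_iff (x : ArrayPt → ZMod 3) : x ∈ ternaryGolayCode ↔ ∃ a : Tup, enc a = x :=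
  ⟨enc_surj x, fun ⟨a, ha⟩ => ha ▸ enc_mem a⟩

/-- The code is in bijection with the parameters. -/
noncomputable def codeEquiv : Tup ≃ ↥ternaryGolayCode :=
  Equiv.ofBijective (fun a => ⟨enc a, enc_mem a⟩) (by
    constructor
    · intro a b h
      exact enc_inj (congrArg Subtype.val h)
    · rintro ⟨x, hx⟩
      obtain ⟨a, rfl⟩ := enc_surj x hx
      exact ⟨a, rfl⟩)

theorem card_code : Nat.card ↥ternaryGolayCode = 729 := by
  rw [← Nat.card_congr codeEquiv, Nat.card_eq_fintype_card]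
  simp [Fintype.card_prod, ZMod.card]

theorem ncard_code_filter (Q : (ArrayPt → ZMod 3) → Prop) [DecidablePred fun a : Tup => Q (enc a)] :
    {x | x ∈ ternaryGolayCode ∧ Q x}.ncard = (Finset.univ.filter fun a : Tup => Q (enc a)).card := by
  have : {x | x ∈ ternaryGolayCode ∧ Q x} =
      enc '' ↑(Finset.univ.filter fun a : Tup => Q (enc a)) := by
    ext x
    simp only [Set.mem_ofPred_eq, Finset.coe_filter, Finset.mem_univ, true_and, Set.mem_image]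
    constructor
    · rintro ⟨hx, hq⟩
      obtain ⟨a, rfl⟩ := enc_surj x hx
      exact ⟨a, hq, rfl⟩
    · rintro ⟨a, ha, rfl⟩
      exact ⟨enc_mem a, ha⟩
  rw [this, Set.ncard_image_of_injective _ enc_inj, Set.ncard_coe_finset]

theorem enc_zero : enc 0 = 0 := by
  funext p
  simp [enc]

theorem wt_code (x : ArrayPt → ZMod 3) (hx : x ∈ ternaryGolayCode) (h0 : x ≠ 0) :
    (ternarySupport x).card = 6 ∨ (ternarySupport x).card = 9 ∨ (ternarySupport x).card = 12 := by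
  obtain ⟨a, rfl⟩ := enc_surj x hx
  refine wt_all a ?_
  rintro rfl
  exact h0 enc_zero

theorem six_le_wt (x : ArrayPt → ZMod 3) (hx : x ∈ ternaryGolayCode) (h0 : x ≠ 0) :
    6 ≤ (ternarySupport x).card := by
  have := wt_code x hx h0
  omega

theorem ip_b0 : ∀ b : Tup, ∑ p, b0 p * enc b p = 0 := by decide +kernel
theorem ip_b1 : ∀ b : Tup, ∑ p, b1 p * enc b p = 0 := by decide +kernel
theorem ip_b2 : ∀ b : Tup, ∑ p, b2 p * enc b p = 0 := by decide +kernel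
theorem ip_b3 : ∀ b : Tup, ∑ p, b3 p * enc b p = 0 := by decide +kernel
theorem ip_b4 : ∀ b : Tup, ∑ p, b4 p * enc b p = 0 := by decide +kernel
theorem ip_b5 : ∀ b : Tup, ∑ p, b5 p * enc b p = 0 := by decide +kernel

theorem self_orth (x y : ArrayPt → ZMod 3) (hx : x ∈ ternaryGolayCode) (hy : y ∈ ternaryGolayCode) :
    ∑ p, x p * y p = 0 := by
  obtain ⟨a, rfl⟩ := enc_surj x hx
  obtain ⟨b, rfl⟩ := enc_surj y hy
  have : ∀ p, enc a p * enc b p = a.1 * (b0 p * enc b p) + a.2.1 * (b1 p * enc b p) +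
      a.2.2.1 * (b2 p * enc b p) + a.2.2.2.1 * (b3 p * enc b p) + a.2.2.2.2.1 * (b4 p * enc b p) +
      a.2.2.2.2.2 * (b5 p * enc b p) := by
    intro p
    conv_lhs => unfold enc
    conv_rhs => unfold enc
    ring
  simp only [this, Finset.sum_add_distrib, ← Finset.mul_sum, ip_b0, ip_b1, ip_b2, ip_b3, ip_b4,
    ip_b5]
  simp

end Cfsg.Agent.Lib.Ternary.Basic
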