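/-
The length-12 ternary code: hexads and the Steiner system S(5, 6, 12); sign changes.
-/
import Cfsg.Agent.Lib.Ternary.Basic

set_option autoImplicit false

namespace Cfsg.Agent.Lib.Ternary.Steiner

open Cfsg Cfsg.Agent.Lib.Ternary.Basic

theorem mem_supp {x : ArrayPt → ZMod 3} {p : ArrayPt} : p ∈ ternarySupport x ↔ x p ≠ 0 := by
  simp [ternarySupport]

theorem eq_or_neg_of_ne_zero : ∀ a b : ZMod 3, a ≠ 0 → b ≠ 0 → a = b ∨ a = -b := by decide

/-- Two words of weight 6 whose supports share at least 5 points are equal or opposite. -/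
theorem key {x y : ArrayPt → ZMod 3} (hx : x ∈ ternaryGolayCode) (hy : y ∈ ternaryGolayCode)
    (hxw : (ternarySupport x).card = 6) (hyw : (ternarySupport y).card = 6)
    (hT : 5 ≤ (ternarySupport x ∩ ternarySupport y).card) : y = x ∨ y = -x := by
  classical
  set T := ternarySupport x ∩ ternarySupport y with hTdef
  set Tp := T.filter (fun p => x p = y p) with hTp
  set Tm := T.filter (fun p => x p = - y p) with hTm
  have hcover : T ⊆ Tp ∪ Tm := by
    intro p hp
    have hp' := Finset.mem_inter.mp hp
    have h1 := mem_supp.mp hp'.1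
    have h2 := mem_supp.mp hp'.2
    rcases eq_or_neg_of_ne_zero _ _ h1 h2 with h | h
    · exact Finset.mem_union_left _ (Finset.mem_filter.mpr ⟨hp, h⟩)
    · exact Finset.mem_union_right _ (Finset.mem_filter.mpr ⟨hp, h⟩)
  have hcard : 5 ≤ Tp.card + Tm.card :=
    hT.trans ((Finset.card_le_card hcover).trans (Finset.card_union_le _ _))
  have hU : (ternarySupport x ∪ ternarySupport y).card + T.card = 12 := by
    rw [Finset.card_union_add_card_inter, hxw, hyw]
  have hUle : (ternarySupport x ∪ ternarySupport y).card ≤ 7 := by omega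
  by_cases h3 : 3 ≤ Tp.card
  · -- x - y has small weight
    left
    have hz : x - y ∈ ternaryGolayCode := Submodule.sub_mem _ hx hy
    by_contra hne
    have hz0 : x - y ≠ 0 := fun h => hne (sub_eq_zero.mp h).symm
    have h6 := six_le_wt _ hz hz0
    have hsub : ternarySupport (x - y) ⊆ (ternarySupport x ∪ ternarySupport y) \ Tp := by
      intro p hp
      have hp0 := mem_supp.mp hp
      simp only [Pi.sub_apply] at hp0
      rw [Finset.mem_sdiff]
      constructor
      · by_contra hn
        rw [Finset.mem_union, not_or, mem_supp, mem_supp, not_not, not_not] at hn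
        apply hp0
        rw [hn.1, hn.2, sub_zero]
      · intro hpT
        have := (Finset.mem_filter.mp hpT).2
        apply hp0
        rw [this, sub_self]
    have hTpsub : Tp ⊆ ternarySupport x ∪ ternarySupport y := by
      intro p hp
      have := (Finset.mem_filter.mp hp).1
      exact Finset.mem_union_left _ (Finset.mem_inter.mp this).1
    have := Finset.card_le_card hsub
    rw [Finset.card_sdiff_of_subset hTpsub] at this
    omega
  · -- x + y has small weight
    right
    have h3' : 3 ≤ Tm.card := by omega
    have hz : x + y ∈ ternaryGolayCode := Submodule.add_mem _ hx hy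
    by_contra hne
    have hz0 : x + y ≠ 0 := fun h => hne (eq_neg_of_add_eq_zero_right h)
    have h6 := six_le_wt _ hz hz0
    have hsub : ternarySupport (x + y) ⊆ (ternarySupport x ∪ ternarySupport y) \ Tm := by
      intro p hp
      have hp0 := mem_supp.mp hp
      simp only [Pi.add_apply] at hp0
      rw [Finset.mem_sdiff]
      constructor
      · by_contra hn
        rw [Finset.mem_union, not_or, mem_supp, mem_supp, not_not, not_not] at hn
        apply hp0
        rw [hn.1, hn.2, add_zero]
      · intro hpT
        have := (Finset.mem_filter.mp hpT).2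
        apply hp0
        rw [this, neg_add_cancel]
    have hTmsub : Tm ⊆ ternarySupport x ∪ ternarySupport y := by
      intro p hp
      have := (Finset.mem_filter.mp hp).1
      exact Finset.mem_union_left _ (Finset.mem_inter.mp this).1
    have := Finset.card_le_card hsub
    rw [Finset.card_sdiff_of_subset hTmsub] at this
    omega

theorem supp_neg (x : ArrayPt → ZMod 3) : ternarySupport (-x) = ternarySupport x := by
  ext p
  simp [mem_supp]

/-- Hexads sharing five points are equal. -/
theorem hexad_unique {x y : ArrayPt → ZMod 3} (hx : x ∈ ternaryGolayCode) (hy : y ∈ ternaryGolayCode)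
    (hxw : (ternarySupport x).card = 6) (hyw : (ternarySupport y).card = 6)
    (hT : 5 ≤ (ternarySupport x ∩ ternarySupport y).card) :
    ternarySupport x = ternarySupport y := by
  rcases key hx hy hxw hyw hT with rfl | rfl
  · rfl
  · rw [supp_neg]

/-- The words of weight 6, as parameters. -/
def A6 : Finset Tup := Finset.univ.filter fun a : Tup => (ternarySupport (enc a)).card = 6

theorem A6_card : A6.card = 264 := count6

/-- The support map. -/
def suppE (a : Tup) : Finset ArrayPt := ternarySupport (enc a)

/-- The hexads, as a finite set. -/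
def hexadsF : Finset (Finset ArrayPt) := A6.image suppE

theorem enc_neg (a : Tup) : enc (-a) = - enc a := by
  funext p
  simp only [enc, Pi.neg_apply, Prod.fst_neg, Prod.snd_neg]
  ring

theorem ne_neg_of_mem {a : Tup} (ha : a ∈ A6) : a ≠ -a := by
  intro h
  have ha' : (ternarySupport (enc a)).card = 6 := (Finset.mem_filter.mp ha).2
  have h2 : ∀ u : ZMod 3, u = -u → u = 0 := by decide
  have h0 : enc a = 0 := by
    funext p
    apply h2
    have := congrFun (congrArg enc h) p
    rw [enc_neg] at this
    exact this
  rw [h0] at ha'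
  have : ternarySupport (0 : ArrayPt → ZMod 3) = ∅ := by
    ext p
    simp [mem_supp]
  rw [this] at ha'
  simp at ha'

theorem hexadsF_card : hexadsF.card = 132 := by
  classical
  have h1 : A6.card = 2 * hexadsF.card := by
    unfold hexadsF
    rw [Finset.card_eq_sum_card_image suppE A6, Finset.sum_const_nat (m := 2), mul_comm]
    intro h hh
    obtain ⟨a, ha, rfl⟩ := Finset.mem_image.mp hh
    have ha6 : (ternarySupport (enc a)).card = 6 := (Finset.mem_filter.mp ha).2
    have hfib : A6.filter (fun b => suppE b = suppE a) = {a, -a} := by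
      ext b
      simp only [Finset.mem_filter, Finset.mem_insert, Finset.mem_singleton]
      constructor
      · rintro ⟨hb, hs⟩
        have hb6 : (ternarySupport (enc b)).card = 6 := (Finset.mem_filter.mp hb).2
        have hT : 5 ≤ (ternarySupport (enc a) ∩ ternarySupport (enc b)).card := by
          have : suppE b = suppE a := hs
          unfold suppE at this
          rw [this, Finset.inter_self, ha6]
          norm_num
        rcases key (enc_mem a) (enc_mem b) ha6 hb6 hT with h | h
        · left; exact enc_inj h
        · right; rw [← enc_neg] at h; exact enc_inj h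
      · rintro (rfl | rfl)
        · exact ⟨ha, rfl⟩
        · have hs : suppE (-a) = suppE a := by
            unfold suppE
            rw [enc_neg, supp_neg]
          refine ⟨?_, hs⟩
          apply Finset.mem_filter.mpr
          refine ⟨Finset.mem_univ _, ?_⟩
          rw [enc_neg, supp_neg]
          exact ha6
    rw [hfib]
    exact Finset.card_pair (ne_neg_of_mem ha)
  rw [A6_card] at h1
  omega

theorem mem_hexadsF {h : Finset ArrayPt} :
    h ∈ hexadsF ↔ ∃ x ∈ ternaryGolayCode, ternarySupport x = h ∧ h.card = 6 := by
  unfold hexadsF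
  rw [Finset.mem_image]
  constructor
  · rintro ⟨a, ha, rfl⟩
    exact ⟨enc a, enc_mem a, rfl, (Finset.mem_filter.mp ha).2⟩
  · rintro ⟨x, hx, rfl, h6⟩
    obtain ⟨a, rfl⟩ := enc_surj x hx
    exact ⟨a, Finset.mem_filter.mpr ⟨Finset.mem_univ _, h6⟩, rfl⟩

theorem hexads_eq :
    {h : Finset ArrayPt | ∃ x ∈ ternaryGolayCode, ternarySupport x = h ∧ h.card = 6} = ↑hexadsF := by
  ext h
  simp only [Set.mem_ofPred_eq, Finset.mem_coe, mem_hexadsF]

theorem hexad_unique' {h h' : Finset ArrayPt} (hh : h ∈ hexadsF) (hh' : h' ∈ hexadsF)
    (hT : 5 ≤ (h ∩ h').card) : h = h' := by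
  obtain ⟨x, hx, rfl, h6⟩ := mem_hexadsF.mp hh
  obtain ⟨y, hy, rfl, h6'⟩ := mem_hexadsF.mp hh'
  exact hexad_unique hx hy h6 h6' hT

/-- Counting: a family of `k`-sets, two of which share fewer than `t` points, with the right number
of members covers every `t`-set. -/
theorem exists_block_of_counting {α : Type*} [DecidableEq α] [Fintype α] (F : Finset (Finset α))
    (t k : ℕ) (hk : ∀ h ∈ F, h.card = k) (huniq : ∀ h ∈ F, ∀ h' ∈ F, t ≤ (h ∩ h').card → h = h')
    (hcount : (Fintype.card α).choose t ≤ F.card * k.choose t) (s : Finset α) (hs : s.card = t) :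
    ∃ h ∈ F, s ⊆ h := by
  have hunion : F.biUnion (fun h => Finset.powersetCard t h) =
      Finset.powersetCard t (Finset.univ : Finset α) := by
    apply Finset.eq_of_subset_of_card_le
    · intro u hu
      obtain ⟨h, _, hu'⟩ := Finset.mem_biUnion.mp hu
      exact Finset.mem_powersetCard.mpr
        ⟨Finset.subset_univ _, (Finset.mem_powersetCard.mp hu').2⟩
    · rw [Finset.card_biUnion, Finset.card_powersetCard]
      · have : ∀ h ∈ F, (Finset.powersetCard t h).card = k.choose t := by
          intro h hh
          rw [Finset.card_powersetCard, hk h hh]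
        rw [Finset.sum_congr rfl this, Finset.sum_const, Finset.card_univ, smul_eq_mul]
        exact hcount
      · intro h hh h' hh' hne
        rw [Function.onFun, Finset.disjoint_left]
        intro u hu hu'
        apply hne
        have h1 := Finset.mem_powersetCard.mp hu
        have h2 := Finset.mem_powersetCard.mp hu'
        apply huniq h hh h' hh'
        rw [← h1.2]
        exact Finset.card_le_card (Finset.subset_inter h1.1 h2.1)
  have hmem : s ∈ F.biUnion (fun h => Finset.powersetCard t h) := by
    rw [hunion]
    exact Finset.mem_powersetCard.mpr ⟨Finset.subset_univ _, hs⟩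
  obtain ⟨h, hh, hu⟩ := Finset.mem_biUnion.mp hmem
  exact ⟨h, hh, (Finset.mem_powersetCard.mp hu).1⟩

/-- Every 5-set lies in a hexad (counting). -/
theorem exists_hexad (s : Finset ArrayPt) (hs : s.card = 5) : ∃ h ∈ hexadsF, s ⊆ h := by
  refine exists_block_of_counting hexadsF 5 6 ?_ (fun h hh h' hh' hT => hexad_unique' hh hh' hT)
    ?_ s hs
  · intro h hh
    obtain ⟨_, _, _, h6⟩ := mem_hexadsF.mp hh
    exact h6
  · rw [hexadsF_card]
    have hu : Fintype.card ArrayPt = 12 := by
      simp [Fintype.card_prod, ZMod.card]
    rw [hu]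
    norm_num [Nat.choose]

theorem steiner : IsSteinerSystem 5 6
    {h : Finset ArrayPt | ∃ x ∈ ternaryGolayCode, ternarySupport x = h ∧ h.card = 6} := by
  rw [hexads_eq]
  refine ⟨fun b hb => ?_, fun s hs => ?_⟩
  · obtain ⟨_, _, _, h6⟩ := mem_hexadsF.mp (Finset.mem_coe.mp hb)
    exact h6
  · obtain ⟨h, hh, hsub⟩ := exists_hexad s hs
    refine ⟨h, ⟨Finset.mem_coe.mpr hh, hsub⟩, ?_⟩
    rintro h' ⟨hh', hsub'⟩
    apply hexad_unique' (Finset.mem_coe.mp hh') hh
    rw [← hs]
    exact Finset.card_le_card (Finset.subset_inter hsub' hsub)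

theorem hexads_ncard :
    {h : Finset ArrayPt | ∃ x ∈ ternaryGolayCode, ternarySupport x = h ∧ h.card = 6}.ncard = 132 := by
  rw [hexads_eq, Set.ncard_coe_finset, hexadsF_card]

theorem monomialMap_one (c : ArrayPt → (ZMod 3)ˣ) (x : ArrayPt → ZMod 3) (p : ArrayPt) :
    monomialMap 1 c x p = c p * x p := rfl

/-- A diagonal automorphism of the code is a scalar. -/
theorem diag (c : ArrayPt → (ZMod 3)ˣ)
    (h : ∀ x ∈ ternaryGolayCode, monomialMap 1 c x ∈ ternaryGolayCode) :
    (∀ p, c p = 1) ∨ (∀ p, c p = -1) := by
  classical
  have hunit : ∀ u : (ZMod 3)ˣ, u = 1 ∨ u = -1 := by decide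
  -- any two points have equal sign
  have hpq : ∀ p q, c p = c q := by
    intro p q
    have hsub : ({p, q} : Finset ArrayPt).card ≤ 5 :=
      Finset.card_le_two.trans (by norm_num)
    have hcard5 : 5 ≤ (Finset.univ : Finset ArrayPt).card := by
      have hu : (Finset.univ : Finset ArrayPt).card = 12 := by
        simp [Fintype.card_prod, ZMod.card]
      rw [hu]
      norm_num
    obtain ⟨s, hs1, _, hs3⟩ := Finset.exists_subsuperset_card_eq
      (Finset.subset_univ ({p, q} : Finset ArrayPt)) hsub hcard5
    obtain ⟨b, hb, hsb⟩ := exists_hexad s hs3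
    obtain ⟨x, hx, rfl, h6⟩ := mem_hexadsF.mp hb
    have hD := h x hx
    have hsupp : ternarySupport (monomialMap 1 c x) = ternarySupport x := by
      ext r
      rw [mem_supp, mem_supp, monomialMap_one]
      simp [Units.ne_zero]
    have hpx : x p ≠ 0 := mem_supp.mp (hsb (hs1 (by simp)))
    have hqx : x q ≠ 0 := mem_supp.mp (hsb (hs1 (by simp)))
    have hkey := key hx hD h6 (by rw [hsupp]; exact h6)
      (by rw [hsupp, Finset.inter_self, h6]; norm_num)
    rcases hkey with hk | hk
    · have e1 := congrFun hk p
      have e2 := congrFun hk q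
      rw [monomialMap_one] at e1 e2
      have c1 : (c p : ZMod 3) = 1 := by
        have : ((c p : ZMod 3) - 1) * x p = 0 := by rw [sub_mul, e1, one_mul, sub_self]
        have := (mul_eq_zero.mp this).resolve_right hpx
        exact sub_eq_zero.mp this
      have c2 : (c q : ZMod 3) = 1 := by
        have : ((c q : ZMod 3) - 1) * x q = 0 := by rw [sub_mul, e2, one_mul, sub_self]
        have := (mul_eq_zero.mp this).resolve_right hqx
        exact sub_eq_zero.mp this
      apply Units.ext
      rw [c1, c2]
    · have e1 := congrFun hk p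
      have e2 := congrFun hk q
      rw [monomialMap_one, Pi.neg_apply] at e1 e2
      have c1 : (c p : ZMod 3) = -1 := by
        have : ((c p : ZMod 3) + 1) * x p = 0 := by rw [add_mul, e1, one_mul, neg_add_cancel]
        have := (mul_eq_zero.mp this).resolve_right hpx
        exact eq_neg_of_add_eq_zero_left this
      have c2 : (c q : ZMod 3) = -1 := by
        have : ((c q : ZMod 3) + 1) * x q = 0 := by rw [add_mul, e2, one_mul, neg_add_cancel]
        have := (mul_eq_zero.mp this).resolve_right hqx
        exact eq_neg_of_add_eq_zero_left this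
      apply Units.ext
      rw [c1, c2]
  rcases hunit (c (0, 0)) with h1 | h1
  · left
    intro p
    rw [hpq p (0, 0), h1]
  · right
    intro p
    rw [hpq p (0, 0), h1]

end Cfsg.Agent.Lib.Ternary.Steiner
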